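import Groth.Agent.AlgSpLib.LqfScheme
import Groth.Agent.AlgSpLib.EqvQuot
import Groth.Agent.AlgSpLib.DiagCrit
import Groth.Agent.AlgSpLib.Diag
import Groth.Agent.AlgSpLib.LocP
import Groth.Agent.AlgSpLib.EtLocalInst
import Groth.Agent.AlgSpLib.SmoothSource
import Groth.Agent.AlgSpLib.MorSep
import Mathlib.AlgebraicGeometry.Sites.Fpqc
import Mathlib.AlgebraicGeometry.Morphisms.UniversallyInjective
import Mathlib.AlgebraicGeometry.Morphisms.Integral

/-!
# Descent of separated étale schemes along universal homeomorphisms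

If `W` is separated étale over `X` and is covered by the base change of an étale `Y`-scheme `U`,
then the equivalence relation on `U` defined by `W` is open and closed, its quotient is a separated
étale algebraic space over `Y`, hence a scheme, and its base change is `W`.
-/

set_option autoImplicit false
set_option linter.all false
set_option backward.isDefEq.respectTransparency.types false
set_option backward.isDefEq.respectTransparency false
universe u

open CategoryTheory CategoryTheory.Limits AlgebraicGeometry AlgSp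

namespace Groth.Agent.EtTopInv

variable {X Y : Scheme.{u}} (f : X ⟶ Y) [IsIntegralHom f] [UniversallyInjective f] [Surjective f]

/-- The projection of a base change. -/
noncomputable abbrev proj (T : Over Y) : ((Over.pullback f).obj T).left ⟶ T.left :=
  pullback.fst T.hom f

lemma isHomeomorph_proj (T : Over Y) : IsHomeomorph (proj f T) := by
  have sq := (IsPullback.of_hasPullback T.hom f).flip
  have : IsIntegralHom (proj f T) := MorphismProperty.of_isPullback (P := @IsIntegralHom) sq inferInstance
  have : UniversallyInjective (proj f T) :=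
    MorphismProperty.of_isPullback (P := @UniversallyInjective) sq inferInstance
  have : Surjective (proj f T) := MorphismProperty.of_isPullback (P := @Surjective) sq inferInstance
  exact isHomeomorph_iff_continuous_isClosedMap_bijective.mpr
    ⟨(proj f T).continuous, (proj f T).isClosedMap, (proj f T).injective, (proj f T).surjective⟩

lemma proj_naturality {T T' : Over Y} (m : T ⟶ T') :
    ((Over.pullback f).map m).left ≫ proj f T' = proj f T ≫ m.left := by
  simp only [Over.pullback_map_left]
  exact pullback.lift_fst _ _ _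

lemma map_snd {T T' : Over Y} (m : T ⟶ T') :
    ((Over.pullback f).map m).left ≫ pullback.snd T'.hom f = pullback.snd T.hom f :=
  Over.w ((Over.pullback f).map m)

lemma isPullback_map {T T' : Over Y} (m : T ⟶ T') :
    IsPullback ((Over.pullback f).map m).left (proj f T) (proj f T') m.left :=
  IsPullback.of_right (h₁₂ := pullback.snd T'.hom f) (h₂₂ := T'.hom) (v₁₃ := f)
    (by rw [map_snd, Over.w m]; exact (IsPullback.of_hasPullback T.hom f).flip)
    (proj_naturality f m) (IsPullback.of_hasPullback T'.hom f).flip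

theorem exists_descent (U : Over Y) [Etale U.hom] (W : Over X) [Etale W.hom] [IsSeparated W.hom]
    (h : (Over.pullback f).obj U ⟶ W) [Surjective h.left] :
    ∃ G : Over Y, Etale G.hom ∧ Nonempty ((Over.pullback f).obj G ≅ W) := by
  let F := Over.pullback f
  let P : Over Y := Over.mk (pullback.fst U.hom U.hom ≫ U.hom)
  let p₁ : P ⟶ U := Over.homMk (pullback.fst U.hom U.hom)
  let p₂ : P ⟶ U := Over.homMk (pullback.snd U.hom U.hom) (pullback.condition.symm)
  let u : F.obj P ⟶ W := F.map p₁ ≫ h
  let v : F.obj P ⟶ W := F.map p₂ ≫ h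
  let uv : (F.obj P).left ⟶ pullback W.hom W.hom :=
    pullback.lift u.left v.left ((Over.w u).trans (Over.w v).symm)
  let r : pullback (pullback.diagonal W.hom) uv ⟶ (F.obj P).left := pullback.snd _ _
  haveI : IsClosedImmersion r := MorphismProperty.pullback_snd (P := @IsClosedImmersion) _ _
    (inferInstanceAs (IsClosedImmersion (pullback.diagonal W.hom)))
  haveI : IsOpenImmersion r := MorphismProperty.pullback_snd (P := @IsOpenImmersion) _ _
    (inferInstanceAs (IsOpenImmersion (pullback.diagonal W.hom)))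
  have hr : r ≫ u.left = r ≫ v.left := by
    have e := pullback.condition (f := pullback.diagonal W.hom) (g := uv)
    have e1 := congrArg (fun k => k ≫ pullback.fst W.hom W.hom) e
    have e2 := congrArg (fun k => k ≫ pullback.snd W.hom W.hom) e
    simp only [Category.assoc, pullback.diagonal_fst, pullback.diagonal_snd, Category.comp_id, uv,
      pullback.lift_fst, pullback.lift_snd] at e1 e2
    exact e1.symm.trans e2
  have key : ∀ {Z : Scheme.{u}} (k : Z ⟶ (F.obj P).left),
      k ≫ u.left = k ≫ v.left ↔ Set.range k ⊆ Set.range r := fun {Z} k => by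
    constructor
    · intro e
      let l : Z ⟶ pullback (pullback.diagonal W.hom) uv := pullback.lift (k ≫ u.left) k (by
        apply pullback.hom_ext <;>
          simp only [Category.assoc, pullback.diagonal_fst, pullback.diagonal_snd, Category.comp_id,
            uv, pullback.lift_fst, pullback.lift_snd]
        exact e)
      have hl : l ≫ r = k := pullback.lift_snd _ _ _
      rintro _ ⟨z, rfl⟩
      exact ⟨l z, congrArg (fun q : Z ⟶ (F.obj P).left => q z) hl⟩
    · intro hk
      rw [← IsOpenImmersion.lift_fac r k hk, Category.assoc, Category.assoc, hr]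
  let C : P.left.Opens := ⟨proj f P '' Set.range r,
    (isHomeomorph_proj f P).isOpenMap _ r.isOpenEmbedding.isOpen_range⟩
  have hClosed : IsClosed (C : Set P.left) :=
    (isHomeomorph_proj f P).isClosedMap _ r.isClosedEmbedding.isClosed_range
  haveI : IsClosedImmersion C.ι :=
    IsClosedImmersion.of_isPreimmersion C.ι (by rw [Scheme.Opens.range_ι]; exact hClosed)
  have key2 : ∀ {Z : Scheme.{u}} (k : Z ⟶ (F.obj P).left),
      k ≫ u.left = k ≫ v.left ↔ Set.range (k ≫ proj f P) ⊆ (C : Set P.left) := fun {Z} k => by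
    rw [key]
    constructor
    · rintro hk _ ⟨z, rfl⟩
      exact ⟨k z, hk ⟨z, rfl⟩, rfl⟩
    · rintro hk _ ⟨z, rfl⟩
      obtain ⟨c, hc, e⟩ := hk ⟨z, rfl⟩
      exact (isHomeomorph_proj f P).injective e ▸ hc
  let pair : ∀ {T : Over Y} (a b : T ⟶ U), T ⟶ P := fun {T} a b =>
    Over.homMk (pullback.lift a.left b.left ((Over.w a).trans (Over.w b).symm))
      ((pullback.lift_fst_assoc _ _ _ _).trans (Over.w a))
  have hpair₁ : ∀ {T : Over Y} (a b : T ⟶ U), pair a b ≫ p₁ = a := fun a b =>
    Over.OverMorphism.ext (pullback.lift_fst _ _ _)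
  have hpair₂ : ∀ {T : Over Y} (a b : T ⟶ U), pair a b ≫ p₂ = b := fun a b =>
    Over.OverMorphism.ext (pullback.lift_snd _ _ _)
  have hP : ∀ {T : Over Y} (m m' : T ⟶ P), m ≫ p₁ = m' ≫ p₁ → m ≫ p₂ = m' ≫ p₂ → m = m' :=
    fun m m' e1 e2 => Over.OverMorphism.ext (pullback.hom_ext
      (congrArg (fun k => k.left) e1) (congrArg (fun k => k.left) e2))
  let R : Over Y := Over.mk (C.ι ≫ P.hom)
  let i : R ⟶ P := Over.homMk C.ι
  let t : R ⟶ U := i ≫ p₁
  let s : R ⟶ U := i ≫ p₂
  have hfac : ∀ {T : Over Y} (m : T ⟶ P), Set.range m.left ⊆ (C : Set P.left) →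
      ∃ q : T ⟶ R, q ≫ i = m := fun {T} m hm => by
    have hq := IsOpenImmersion.lift_fac C.ι m.left (hm.trans (Scheme.Opens.range_ι C).ge)
    refine ⟨Over.homMk (IsOpenImmersion.lift C.ι m.left (hm.trans (Scheme.Opens.range_ι C).ge)) ?_,
      Over.OverMorphism.ext hq⟩
    refine (Category.assoc _ _ _).symm.trans ?_
    rw [hq]; exact Over.w m
  have rel : ∀ (T : Over Y) (a b : T ⟶ U),
      (∃ q : T ⟶ R, q ≫ t = a ∧ q ≫ s = b) ↔ F.map a ≫ h = F.map b ≫ h := fun T a b => by
    let m := pair a b
    have hm : F.map a ≫ h = F.map b ≫ h ↔ (F.map m).left ≫ u.left = (F.map m).left ≫ v.left := by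
      have ea : F.map a ≫ h = F.map m ≫ u := by
        simp only [u, ← Category.assoc, ← F.map_comp]; rw [hpair₁]
      have eb : F.map b ≫ h = F.map m ≫ v := by
        simp only [v, ← Category.assoc, ← F.map_comp]; rw [hpair₂]
      rw [ea, eb]
      exact ⟨fun e => congrArg (fun k => k.left) e, fun e => Over.OverMorphism.ext e⟩
    rw [hm, key2]
    have hrange : Set.range ((F.map m).left ≫ proj f P) = Set.range m.left := by
      rw [proj_naturality]
      exact (isHomeomorph_proj f T).surjective.range_comp m.left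
    rw [hrange]
    constructor
    · rintro ⟨q, rfl, rfl⟩
      have : m = q ≫ i := hP _ _ ((hpair₁ _ _).trans (Category.assoc _ _ _).symm)
        ((hpair₂ _ _).trans (Category.assoc _ _ _).symm)
      rw [this]
      rintro _ ⟨z, rfl⟩
      exact (q.left z).2
    · intro hr
      obtain ⟨q, hq⟩ := hfac m hr
      exact ⟨q, by rw [show q ≫ t = (q ≫ i) ≫ p₁ from (Category.assoc _ _ _).symm, hq, hpair₁],
        by rw [show q ≫ s = (q ≫ i) ≫ p₂ from (Category.assoc _ _ _).symm, hq, hpair₂]⟩
  have : Mono i := Functor.mono_of_mono_map (Over.forget Y) (inferInstanceAs (Mono C.ι))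
  haveI : Etale p₁.left := MorphismProperty.pullback_fst (P := @Etale) _ _ ‹_›
  haveI : Etale p₂.left := MorphismProperty.pullback_snd (P := @Etale) _ _ ‹_›
  have heqv : IsEtaleEqvRel s t := by
    refine ⟨⟨fun T q q' e1 e2 => (cancel_mono i).1 (hP _ _ ?_ ?_), fun T => ?_⟩, ?_, ?_⟩
    · simpa [t] using e1
    · simpa [s] using e2
    · refine ⟨fun a => (rel T a a).2 rfl, fun {a b} hab => (rel T b a).2 ((rel T a b).1 hab).symm,
        fun {a b c} hab hbc => (rel T a c).2 (((rel T a b).1 hab).trans ((rel T b c).1 hbc))⟩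
    · exact inferInstanceAs (Etale (C.ι ≫ p₂.left))
    · exact inferInstanceAs (Etale (C.ι ≫ p₁.left))
  haveI := heqv.etale_right
  -- the quotient
  let π := quotSpπ ((yon Y).map s) ((yon Y).map t)
  let Q := quotSp ((yon Y).map s) ((yon Y).map t)
  have hQ : IsAlgSpace Q := AlgSpLib.isAlgSpace_quotSp heqv
  have hpres := AlgSpLib.isPresentation_quotSp heqv
  let T₀ : Over Y := Over.mk (𝟙 Y)
  let hU : U ⟶ T₀ := Over.homMk U.hom (Category.comp_id _)
  have hT₀ : ∀ {V : Over Y} (a b : V ⟶ T₀), a = b := fun {V} a b =>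
    Over.OverMorphism.ext (by
      have ha : a.left ≫ 𝟙 Y = V.hom := Over.w a
      have hb : b.left ≫ 𝟙 Y = V.hom := Over.w b
      exact ((Category.comp_id a.left).symm.trans (ha.trans hb.symm)).trans (Category.comp_id b.left))
  let g : Q ⟶ (yon Y).obj T₀ := quotSpDesc ((yon Y).map hU) (by
    rw [← Functor.map_comp, ← Functor.map_comp, hT₀ (s ≫ hU) (t ≫ hU)])
  have hg : π ≫ g = (yon Y).map hU := quotSpπ_desc _ _ _ _
  have hdiag : RepWith @IsClosedImmersion (Limits.diag Q) := by
    have sqd := AlgSpLib.isPullback_diag_prod_map hpres.isPullback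
    have hj : RepWith @IsClosedImmersion (prod.lift ((yon Y).map t) ((yon Y).map s)) := by
      refine AlgSpLib.repWith_prod_lift t s ?_
      have e : pullback.lift t.left s.left ((Over.w t).trans (Over.w s).symm) = C.ι :=
        pullback.hom_ext (pullback.lift_fst _ _ _) (pullback.lift_snd _ _ _)
      rw [e]; infer_instance
    haveI : Sheaf.IsLocallySurjective (prod.map π π) := AlgSpLib.isLocallySurjective_of_etale
      (AlgSpLib.repWith_prod_map hpres.etale hpres.etale)
      (AlgSpLib.repWith_prod_map hpres.surjective hpres.surjective)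
    exact AlgSpLib.repWith_of_isLocallySurjective hQ.diag (prod.map π π) sqd @IsClosedImmersion hj
  have hqf : LocP (@LocallyQuasiFinite ⊓ @LocallyOfFiniteType) g :=
    AlgSpLib.locP_of_chart_square AlgSpLib.etLocal_lqf hQ π hpres.etale hpres.surjective
      (𝟙 _) (AlgSpLib.repWith_of_isIso _ _) hU
      (AlgSpLib.etLocal_lqf.of_etale _ _ hU.left (inferInstanceAs (Etale U.hom)))
      (hg.trans (Category.comp_id _).symm)
  obtain ⟨G, ⟨e⟩⟩ := AlgSpLib.exists_iso_yon_of_lqf_separated hQ g
    (AlgSpLib.repWith_diagonal g hdiag) hqf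
  obtain ⟨p, hp⟩ := (yon Y).map_surjective (π ≫ e.inv)
  have hpe : Etale p.left := (repWith_yon_map_iff @Etale p).1 (by
    rw [hp]; exact (RepWith @Etale).comp_mem _ _ hpres.etale (AlgSpLib.repWith_of_isIso _ _))
  have hps : Surjective p.left := (repWith_yon_map_iff @Surjective p).1 (by
    rw [hp]; exact (RepWith @Surjective).comp_mem _ _ hpres.surjective (AlgSpLib.repWith_of_isIso _ _))
  have hGe : Etale G.hom := AlgSpLib.etale_of_comp_fppf p.left G.hom (by rw [Over.w p]; infer_instance)
  have hker : ∀ {T : Over Y} (a b : T ⟶ U), a ≫ p = b ≫ p ↔ F.map a ≫ h = F.map b ≫ h := fun {T} a b => by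
    constructor
    · intro e'
      refine (rel T a b).1 ?_
      have e'' : (yon Y).map a ≫ π = (yon Y).map b ≫ π := by
        have := congrArg (fun k => (yon Y).map k ≫ e.hom) e'
        simpa [Functor.map_comp, hp] using this
      obtain ⟨q, h1, h2⟩ := hpres.isPullback.exists_lift _ _ e''
      obtain ⟨q, rfl⟩ := (yon Y).map_surjective q
      exact ⟨q, (yon Y).map_injective (by rw [Functor.map_comp]; exact h1),
        (yon Y).map_injective (by rw [Functor.map_comp]; exact h2)⟩
    · intro e'
      obtain ⟨q, rfl, rfl⟩ := (rel T a b).2 e'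
      apply (yon Y).map_injective
      simp only [Functor.map_comp, hp, Category.assoc]
      rw [← Category.assoc ((yon Y).map t), ← Category.assoc ((yon Y).map s), hpres.isPullback.w]
  -- the kernel pairs of `F.map p` and of `h` agree
  let fp := (F.map p).left
  haveI : Etale fp := MorphismProperty.of_isPullback (P := @Etale) (isPullback_map f p).flip hpe
  haveI : Surjective fp := MorphismProperty.of_isPullback (P := @Surjective) (isPullback_map f p).flip hps
  haveI : Etale (F.obj U).hom := MorphismProperty.pullback_snd (P := @Etale) _ _ ‹_›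
  haveI : Etale h.left := by
    have : Etale (h.left ≫ W.hom) := (Over.w h).symm ▸ ‹Etale (F.obj U).hom›
    exact Etale.of_comp h.left W.hom
  have hkereq : ∀ {Z : Scheme.{u}} (a b : Z ⟶ (F.obj U).left),
      a ≫ fp = b ≫ fp ↔ a ≫ h.left = b ≫ h.left ∧ a ≫ (F.obj U).hom = b ≫ (F.obj U).hom := fun {Z} a b => by
    by_cases hab : a ≫ (F.obj U).hom = b ≫ (F.obj U).hom
    swap
    · refine iff_of_false (fun e' => hab ?_) (fun e' => hab e'.2)
      rw [← Over.w (F.map p)]
      exact (reassoc_of% e') _
    let T : Over Y := Over.mk ((a ≫ (F.obj U).hom) ≫ f)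
    let a₀ : T ⟶ U := Over.homMk (a ≫ proj f U) (by
      change _ = (a ≫ pullback.snd U.hom f) ≫ f
      rw [Category.assoc, Category.assoc, pullback.condition])
    let b₀ : T ⟶ U := Over.homMk (b ≫ proj f U) (by
      change _ = (a ≫ (F.obj U).hom) ≫ f
      rw [hab]
      change _ = (b ≫ pullback.snd U.hom f) ≫ f
      rw [Category.assoc, Category.assoc, pullback.condition])
    -- the unit
    let η : Z ⟶ (F.obj T).left := pullback.lift (𝟙 Z) (a ≫ (F.obj U).hom) (Category.id_comp _)
    have ha : η ≫ (F.map a₀).left = a := by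
      apply pullback.hom_ext
      · rw [Category.assoc]
        erw [proj_naturality]
        rw [← Category.assoc, pullback.lift_fst, Category.id_comp]; rfl
      · rw [Category.assoc]
        erw [map_snd]
        rw [pullback.lift_snd]; rfl
    have hb : η ≫ (F.map b₀).left = b := by
      apply pullback.hom_ext
      · rw [Category.assoc]
        erw [proj_naturality]
        rw [← Category.assoc, pullback.lift_fst, Category.id_comp]; rfl
      · rw [Category.assoc]
        erw [map_snd]
        rw [pullback.lift_snd, hab]; rfl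
    let m' : Z ⟶ (F.obj P).left := η ≫ (F.map (pair a₀ b₀)).left
    have hrange : Set.range (m' ≫ proj f P) = Set.range (pair a₀ b₀).left := by
      rw [show m' ≫ proj f P = (η ≫ proj f T) ≫ (pair a₀ b₀).left from
        (Category.assoc _ _ _).trans ((congrArg (η ≫ ·) (proj_naturality f _)).trans (Category.assoc _ _ _).symm)]
      rw [pullback.lift_fst, Category.id_comp]
      rfl
    have hh : a ≫ h.left = b ≫ h.left ↔ m' ≫ u.left = m' ≫ v.left := by
      have hu : m' ≫ u.left = a ≫ h.left := by
        conv_rhs => rw [← ha, ← hpair₁ a₀ b₀, F.map_comp]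
        simp only [m', u, Over.comp_left, Category.assoc]
      have hv : m' ≫ v.left = b ≫ h.left := by
        conv_rhs => rw [← hb, ← hpair₂ a₀ b₀, F.map_comp]
        simp only [m', v, Over.comp_left, Category.assoc]
      rw [hu, hv]
    have hh' : a ≫ h.left = b ≫ h.left ↔ F.map a₀ ≫ h = F.map b₀ ≫ h := by
      rw [hh, key2, hrange, ← rel]
      constructor
      · intro hr
        obtain ⟨q, hq⟩ := hfac _ hr
        exact ⟨q, by rw [show q ≫ t = (q ≫ i) ≫ p₁ from (Category.assoc _ _ _).symm, hq, hpair₁],
          by rw [show q ≫ s = (q ≫ i) ≫ p₂ from (Category.assoc _ _ _).symm, hq, hpair₂]⟩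
      · rintro ⟨q, h1, h2⟩
        have : pair a₀ b₀ = q ≫ i := hP _ _ ((hpair₁ _ _).trans (h1.symm.trans (Category.assoc _ _ _).symm))
          ((hpair₂ _ _).trans (h2.symm.trans (Category.assoc _ _ _).symm))
        rw [this]
        rintro _ ⟨z, rfl⟩
        exact (q.left z).2
    constructor
    · intro e'
      refine ⟨hh'.2 ((hker a₀ b₀).1 (Over.OverMorphism.ext ?_)), hab⟩
      change (a ≫ proj f U) ≫ p.left = (b ≫ proj f U) ≫ p.left
      rw [Category.assoc, Category.assoc, ← proj_naturality, reassoc_of% e']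
    · rintro ⟨e', -⟩
      have e'' := congrArg (fun k => k.left) ((hker a₀ b₀).2 (hh'.1 e'))
      rw [← ha, ← hb, Category.assoc, Category.assoc]
      congr 1
      change (F.map a₀).left ≫ (F.map p).left = (F.map b₀).left ≫ (F.map p).left
      rw [← Over.comp_left, ← Over.comp_left, ← F.map_comp, ← F.map_comp, (hker a₀ b₀).2 (hh'.1 e')]
  let φ : (F.obj G).left ⟶ W.left := EffectiveEpi.desc fp h.left fun a b e' => ((hkereq a b).1 e').1
  let ψ : W.left ⟶ (F.obj G).left := EffectiveEpi.desc h.left fp fun a b e' =>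
    (hkereq a b).2 ⟨e', by rw [← Over.w h]; exact (reassoc_of% e') _⟩
  have hφ : fp ≫ φ = h.left := EffectiveEpi.fac _ _ _
  have hψ : h.left ≫ ψ = fp := EffectiveEpi.fac _ _ _
  have h1 : φ ≫ ψ = 𝟙 _ := by
    rw [← cancel_epi fp, ← Category.assoc, hφ, hψ, Category.comp_id]
  have h2 : ψ ≫ φ = 𝟙 _ := by
    rw [← cancel_epi h.left, ← Category.assoc, hψ, hφ, Category.comp_id]
  refine ⟨G, hGe, ⟨Over.isoMk ⟨φ, ψ, h1, h2⟩ ?_⟩⟩
  rw [← cancel_epi fp, ← Category.assoc, hφ, Over.w h]
  exact (Over.w (F.map p)).symm

end Groth.Agent.EtTopInv
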